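import Cfsg.Agent.TID.SO.C.Th
import Cfsg.Agent.TID.SO.LeechA
import Cfsg.Agent.H680.HNF.NoFF
import Cfsg.Agent.H651.HNF.Main
import Cfsg.Agent.H183.Weak.HNa

/-!
# The rows `HN/3`, `HN/5` of `KSporOdd` (helper62, project TID)
-/

set_option autoImplicit false
set_option linter.unusedSectionVars false
set_option maxHeartbeats 400000

namespace Cfsg.Agent.TID.SO.C

open Cfsg Subgroup Cfsg.Agent.TID Cfsg.Agent.TID.SO
open Cfsg.Agent.CpAutHN.Pairs Cfsg.Agent.CpAutHN.Second Cfsg.Agent.H569.HNThree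

universe u

theorem hn5 (D : Subgroup Spor.HN) (h : Sit 5 D) : False := by
  have R := H651.HNF.raw
  have : Finite Spor.HN := Nat.finite_of_card_ne_zero (by rw [R.card]; norm_num)
  have h5 : Fact (Nat.Prime 5) := ⟨Nat.prime_five⟩
  refine h.false_of_odd (fun r y hr hr2 hr5 hy hD => ?_) fun z _ hz =>
    H183.Weak.HN.core_of_five (hz.dvd Nat.prime_five (by rw [R.card]; norm_num))
  have h9 : 5 ^ 2 ∣ H651.HNF.cn y := sq_dvd_C1 h hD
  have h8 : r ^ 1 ∣ 273030912000000 := by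
    rw [pow_one, ← hy, ← R.card]
    exact orderOf_dvd_natCard y
  obtain ⟨j, hj, -⟩ := OrdDiv.exists_pair (l := [(2, 14), (3, 6), (5, 6), (7, 1), (11, 1), (19, 1)])
    (by decide +kernel) hr le_rfl h8
  simp only [List.mem_cons, Prod.mk.injEq, List.not_mem_nil, or_false] at hj
  rcases hj with ⟨rfl, -⟩ | ⟨rfl, -⟩ | ⟨rfl, -⟩ | ⟨rfl, -⟩ | ⟨rfl, -⟩ | ⟨rfl, -⟩
  · exact hr2 rfl
  · rcases R.r3 y hy with h1 | h1 <;> rw [h1] at h9 <;> norm_num at h9
  · exact hr5 rfl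
  · rw [R.r7 y hy] at h9
    norm_num at h9
  · rw [R.r11 y hy] at h9
    norm_num at h9
  · rw [R.r19 y hy] at h9
    norm_num at h9

theorem hn3_one (D : Subgroup G) (h : Sit 3 D) (hx : X1 ∈ D) : False := by
  have := finite_G
  have h3 : Fact (Nat.Prime 3) := ⟨Nat.prime_three⟩
  obtain ⟨w, hw, -, hc, hne⟩ := exists_snd h.loc.pgrp h.loc.rk hx order_X1
  have hN : (D.subgroupOf (C1 X1)).Normal :=
    normal_subgroupOf_of_le_normalizer (h.loc.ti.cent_le hx (ne_one_of_order order_X1))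
  have hP : IsPGroup 3 ((D.subgroupOf (C1 X1)).comap Ψ) := h.loc.pgrp.comap_subtype.comap_of_injective Ψ Ψ_inj
  have hs := simple_A9
  have h1 : (D.subgroupOf (C1 X1)).comap Ψ = ⊥ := by
    refine (hN.comap Ψ).eq_bot_or_eq_top.resolve_right fun h2 => ?_
    rw [h2] at hP
    obtain ⟨k, hk⟩ := IsPGroup.iff_card.1 hP
    rw [card_top, CpAutHN.NineAlt.card_A9] at hk
    have h4 : 2 ∣ 3 ^ k := by rw [← hk]; norm_num
    have h5 := Nat.prime_two.dvd_of_dvd_pow h4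
    norm_num at h5
  obtain ⟨i, a, hia⟩ := H280.HNF.main.gen ⟨w, mem_C1.2 hc⟩
  have h2 : (w : G) = X1 ^ i * (Ψ a : G) := by
    have h6 := congrArg Subtype.val hia
    rwa [Subgroup.coe_mul, Subgroup.coe_zpow] at h6
  have h4 : a ∈ (D.subgroupOf (C1 X1)).comap Ψ := by
    change (Ψ a : G) ∈ D
    rw [show (Ψ a : G) = (X1 ^ i)⁻¹ * w by rw [h2]; group]
    exact D.mul_mem (D.inv_mem (D.zpow_mem hx i)) hw
  rw [h1, mem_bot] at h4
  rw [h4, map_one, Subgroup.coe_one, mul_one] at h2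
  exact hne ⟨i, h2.symm⟩

theorem hn3_three (D : Subgroup G) (h : Sit 3 D) (hx : X3 ∈ D) : False := by
  have := finite_G
  have h3 : Fact (Nat.Prime 3) := ⟨Nat.prime_three⟩
  have hch := Lib.Cores.pPrimeCore_characteristic (G := MM) 2
  have hc : Nat.card ((pPrimeCore 2 MM).map MM.subtype) = 3 ^ 5 := by
    rw [card_map_of_injective (subtype_injective _), H680.HNF.card_core]
    norm_num
  refine h.not_Q (Q := (pPrimeCore 2 MM).map MM.subtype) (IsPGroup.of_card hc)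
    ((map_subtype_le _).trans (h.loc.ti.cent_le hx (ne_one_of_order order_X3)))
    ((Cz_le_C1 hx).trans (le_normalizer.trans (Nz_le_Nz_char _))) fun y hy hyQ hyp => ?_
  by_contra hy1
  obtain ⟨r, hr, hry⟩ := Nat.exists_prime_and_dvd (fun h4 => hy1 (orderOf_eq_one_iff.1 h4))
  have ho : orderOf (y ^ (orderOf y / r)) = r := orderOf_pow_orderOf_div (orderOf_pos y).ne' hry
  set t := y ^ (orderOf y / r) with ht
  have htQ : t ∈ Cz ((pPrimeCore 2 MM).map MM.subtype) := pow_mem hyQ _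
  have htM : t ∈ MM := Cz_le_C1 hx (pow_mem hy _)
  have h2 : r = 2 := by
    refine H680.HNF.prime_x1m (m := ⟨t, htM⟩) hr (by rw [← ho]; exact (Subgroup.orderOf_coe _).symm)
      (fun h4 => hyp (h4 ▸ hry)) (Subtype.ext ?_)
    exact (mem_Cz.1 htQ _ ⟨_, H680.HNF.x1m_core, rfl⟩).symm
  rw [h2] at ho
  refine H183.Weak.HN.three_part t ho ((pow_dvd_pow 3 (by norm_num : 2 + 1 ≤ 5)).trans ?_)
  rw [← hc]
  exact card_dvd_of_le fun q hq => mem_C1.2 (mem_Cz.1 htQ q hq).symm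

theorem hn3 (D : Subgroup Spor.HN) (h : Sit 3 D) : False := by
  have := finite_G
  have h3 : Fact (Nat.Prime 3) := ⟨Nat.prime_three⟩
  obtain ⟨v, hv, hvo⟩ := exists_elt h
  obtain ⟨c, hc | hc⟩ := H680.HNF.dich hvo
  · exact hn3_one _ (h.map (MulAut.conj c)) ⟨v, hv, hc⟩
  · exact hn3_three _ (h.map (MulAut.conj c)) ⟨v, hv, hc⟩

/-- **HN, p = 3** -/
theorem hn_3 : Row.{u} 3 (fun S _ => Spor.IsoHN S) := fun _ _ _ ⟨e⟩ => NoSit.congr e hn3

/-- **HN, p = 5** -/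
theorem hn_5 : Row.{u} 5 (fun S _ => Spor.IsoHN S) := fun _ _ _ ⟨e⟩ => NoSit.congr e hn5

end Cfsg.Agent.TID.SO.C
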