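import Cfsg.Agent.TID.SO.Asm
import Cfsg.Agent.H502.TO.StarB
import Cfsg.Agent.H513.AbTh
import Cfsg.Agent.SevenCases.SporTh

/-!
# The rows `Th/3`, `Th/5` of `KSporOdd` (helper62, project TID)
-/

set_option autoImplicit false
set_option linter.unusedSectionVars false
set_option maxHeartbeats 400000

namespace Cfsg.Agent.TID.SO.C

open Cfsg Subgroup Cfsg.Agent.TID Cfsg.Agent.TID.SO

universe u

section tools

variable {G : Type u} [Group G] [Finite G] {p : ℕ} [hp : Fact p.Prime] {D : Subgroup G}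

/-- an element of order `p` of `D` -/
theorem exists_elt (h : Sit p D) : ∃ v ∈ D, orderOf v = p := by
  obtain ⟨V, h1, h2, h3⟩ := h.loc.rk
  obtain ⟨v, hv, hv1⟩ := V.bot_or_exists_ne_one.resolve_left (el_ne_bot h3)
  exact ⟨v, h1 hv, el_order h2 hv hv1⟩

omit [Finite G] in
theorem sq_dvd_C1 (h : Sit p D) {y : G} (hy : D ≤ C1 y) : p ^ 2 ∣ Nat.card (C1 y) :=
  h.loc.rk.sq_dvd.trans (card_dvd_of_le hy)

omit hp in
/-- `O_{p'}(C(v)) = 1` from the elementwise form -/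
theorem core_eq_bot {v : G} (h : ∀ W : Subgroup G, (∀ w ∈ W, w * v = v * w) →
    (∀ g, g * v = v * g → ∀ w ∈ W, g * w * g⁻¹ ∈ W) → ¬ p ∣ Nat.card W → W = ⊥) (hp : p.Prime) :
    pPrimeCore p (C1 v) = ⊥ := by
  have hn := Lib.Cores.pPrimeCore_normal (G := C1 v) p
  have h1 := h ((pPrimeCore p (C1 v)).map (C1 v).subtype) (by
    rintro _ ⟨w, -, rfl⟩
    exact (mem_C1.1 w.2).symm) (by
    rintro g hg _ ⟨w, hw, rfl⟩
    exact ⟨_, hn.conj_mem w hw ⟨g, mem_C1.2 hg.symm⟩, rfl⟩) (by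
    rw [card_map_of_injective (subtype_injective _)]
    exact (Nat.Prime.coprime_iff_not_dvd hp).1 (Lib.Cores.pPrimeCore_coprime p).symm)
  exact (map_eq_bot_iff_of_injective _ (subtype_injective _)).1 h1

end tools

theorem th3 (D : Subgroup Spor.Th) (h : Sit 3 D) : False := by
  have := H502.TO.fin_th
  have h3 : Fact (Nat.Prime 3) := ⟨Nat.prime_three⟩
  have hc := H502.TO.card_th
  have inv : ∀ t : Spor.Th, orderOf t = 2 → D ≤ C1 t → False := fun t ht hD =>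
    false_of_charTwo SevenCases.SporTh.charTwo_Th (by norm_num) h.loc.pgrp h.loc.ti le_rfl h.loc.rk ht hD
  rcases h.tri with ⟨L, hL⟩ | h2
  · obtain ⟨t, -, ht, -, -, -, -, -, -, hD⟩ := comp_exists_inv hL
    exact inv t ht hD
  obtain ⟨r, k, y, hr, hr3, hy, hD, hk, h4, h5⟩ := h2.num
  have h6 := h5 10 (by rw [hc]; norm_num)
  have h7 : r ^ k ∣ Nat.card (C1 y) := h4.trans (card_dvd_of_le inf_le_right)
  have h8 : r ^ k ∣ 90745943887872000 := hc ▸ h7.trans (card_subgroup_dvd_card _)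
  have h9 := sq_dvd_C1 h hD
  obtain ⟨j, hj, hkj⟩ := OrdDiv.exists_pair (l := [(2, 15), (3, 10), (5, 3), (7, 2), (13, 1), (19, 1), (31, 1)])
    (by decide +kernel) hr hk h8
  simp only [List.mem_cons, Prod.mk.injEq, List.not_mem_nil, or_false] at hj
  have big : ∀ a : ℕ, 3 ^ 10 ∣ a * Nat.card (C1 y) → ¬ 3 ^ 3 ∣ a → 3 ^ 8 ∣ Nat.card (C1 y) := by
    intro a ha hna
    obtain ⟨b, c, hb, hc, hbc⟩ := exists_dvd_and_dvd_of_dvd_mul ha
    obtain ⟨i, -, rfl⟩ := (Nat.dvd_prime_pow Nat.prime_three).1 (⟨c, hbc⟩ : b ∣ 3 ^ 10)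
    obtain ⟨l, -, rfl⟩ := (Nat.dvd_prime_pow Nat.prime_three).1 (⟨3 ^ i, by rw [hbc, mul_comm]⟩ : c ∣ 3 ^ 10)
    rw [← pow_add] at hbc
    have h1 := Nat.pow_right_injective (by norm_num : 2 ≤ 3) hbc
    have h2 : i < 3 := by
      by_contra h3
      exact hna ((pow_dvd_pow 3 (by omega)).trans hb)
    exact (pow_dvd_pow 3 (by omega)).trans hc
  rcases hj with ⟨rfl, rfl⟩ | ⟨rfl, rfl⟩ | ⟨rfl, rfl⟩ | ⟨rfl, rfl⟩ | ⟨rfl, rfl⟩ | ⟨rfl, rfl⟩ | ⟨rfl, rfl⟩
  · exact inv y hy hD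
  · exact hr3 rfl
  · rw [show Nat.card (C1 y) = 3000 from H502.TO.card_five hy] at h9
    norm_num at h9
  · have h10 := big _ h6 (by interval_cases k <;> norm_num)
    rcases H513.AbTh.cent_seven hy with h11 | h11 <;> rw [show Nat.card (C1 y) = _ from h11] at h10 <;> norm_num at h10
  · exact H502.TO.no_38 (Or.inl rfl) hy (big _ h6 (by interval_cases k; norm_num))
  · exact H502.TO.no_38 (Or.inr (Or.inl rfl)) hy (big _ h6 (by interval_cases k; norm_num))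
  · exact H502.TO.no_38 (Or.inr (Or.inr rfl)) hy (big _ h6 (by interval_cases k; norm_num))

theorem th5 (D : Subgroup Spor.Th) (h : Sit 5 D) : False := by
  obtain ⟨_, x, y, z, a, T⟩ := H49.ThFive.exists_dat
  have h5 : Fact (Nat.Prime 5) := ⟨Nat.prime_five⟩
  rcases h.tri with ⟨L, hL⟩ | h2
  · obtain ⟨t, -, ht, -, -, -, -, -, -, hD⟩ := comp_exists_inv hL
    exact false_of_charTwo SevenCases.SporTh.charTwo_Th (by norm_num) h.loc.pgrp h.loc.ti le_rfl h.loc.rk ht hD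
  · obtain ⟨v, hv, hvo⟩ := exists_elt h
    exact h2.core h.loc.ti hv (ne_one_of_order hvo)
      (core_eq_bot (fun W h1 h3 h4 => T.core hvo h1 h3 h4) Nat.prime_five)

/-- **Th, p = 3** -/
theorem th_3 : Row.{u} 3 (fun S _ => Spor.IsoTh S) := fun _ _ _ ⟨e⟩ => NoSit.congr e th3

/-- **Th, p = 5** -/
theorem th_5 : Row.{u} 5 (fun S _ => Spor.IsoTh S) := fun _ _ _ ⟨e⟩ => NoSit.congr e th5

end Cfsg.Agent.TID.SO.C
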